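import Cfsg.Agent.H455.E83.FixDat
import Cfsg.Agent.H455.E83.Q
import Cfsg.Agent.H74.E83.Trip
import Cfsg.Agent.H64.E83.Iota

/-!
# The fixed spaces of the two subgroups `A₅ ≥ ⟨y, t⟩` of `S = ⟨x, y, t⟩` (helper455, S5925, box L)

`fixI`  : `y v = v`, `t v = v`, `t (x v) = x v` imply `v ∈ ⟨q_I, q_I'⟩`;
`fixII` : `y v = v`, `t v = v`, `t (x⁻¹ v) = x⁻¹ v` imply `v ∈ ⟨q_II, q_II'⟩`.
The engine is that of helper74 (packed rows, elimination in the kernel).
-/

set_option autoImplicit false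
set_option maxRecDepth 100000

namespace Cfsg.Agent.H455.E83

open Matrix Cfsg Cfsg.Lie
open Cfsg.Agent.H64.E83 (L3 mx vec Ph er cf vec_inr vec_inl vec_nil vec_cons mx_mul)
open Cfsg.Agent.H788.E83
open Cfsg.Agent.H74.E83 Cfsg.Agent.H74.E83.Trit Cfsg.Agent.H74.E83.Code Cfsg.Agent.H74.E83.Elim
open Cfsg.Agent.H74.E83.Trip
open Cfsg.Agent.H751.Two.Word (sz pos posOK)

/-! ### rows -/

theorem ann_sub {D : ChevalleyDatum} (hs : sz D ≤ 256) {v : D.Idx → ZMod 3} {V W : ℕ} (hV : VldM V) (hW : VldM W)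
    (hv : (semM D V).mulVec v = (semM D W).mulVec v) {i : ℕ} (hi : i < sz D) : Ann v (tsub (row V i) (row W i)) := by
  obtain ⟨k, rfl⟩ := (posOK D).surj i hi
  refine ⟨vld_sub (hV _) (hW _), ?_⟩
  unfold dotp
  have h1 := congrFun hv k
  rw [Matrix.mulVec, dotProduct, Matrix.mulVec, dotProduct] at h1
  rw [Finset.sum_congr rfl fun j _ => by rw [val_sub (hV _) (hW _) (pos_lt hs j), sub_mul], Finset.sum_sub_distrib]
  rw [sub_eq_zero]
  exact h1

theorem ann_un {D : ChevalleyDatum} (hs : sz D ≤ 256) {v : D.Idx → ZMod 3} {k : D.Idx} (h : v k = 0) :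
    Ann v (tun (pos D k)) := by
  have hk : pos D k < 256 := pos_lt hs k
  refine ⟨vld_un hk, ?_⟩
  unfold dotp
  rw [Finset.sum_eq_single k]
  · rw [h, mul_zero]
  · intro j _ hj
    rw [val_un hk, if_neg (fun h => hj ((posOK D).inj h)), zero_mul]
  · intro h5
    exact absurd (Finset.mem_univ _) h5

theorem dotp_add {D : ChevalleyDatum} (w : ℕ) (u v : D.Idx → ZMod 3) : dotp w (u + v) = dotp w u + dotp w v := by
  unfold dotp
  rw [← Finset.sum_add_distrib]
  exact Finset.sum_congr rfl fun j _ => mul_add _ _ _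

theorem dotp_smul {D : ChevalleyDatum} (w : ℕ) (c : ZMod 3) (v : D.Idx → ZMod 3) : dotp w (c • v) = c * dotp w v := by
  unfold dotp
  rw [Finset.mul_sum]
  exact Finset.sum_congr rfl fun j _ => mul_left_comm _ _ _

theorem dotp_zero {D : ChevalleyDatum} (w : ℕ) : dotp w (0 : D.Idx → ZMod 3) = 0 := by
  unfold dotp
  exact Finset.sum_eq_zero fun j _ => mul_zero _

/-! ### the value on a sparse vector -/

/-- the value -/
def cn (w : ℕ) : List (ℕ × ℤ) → ℕ
  | [] => 0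
  | a :: l => cn w l + a.2.toNat * (bt w (8 + a.1) + 2 * bt w (264 + a.1))

theorem bt_cast (w c : ℕ) : ((bt w c : ℕ) : ZMod 3) = if w.testBit c then 1 else 0 := by
  unfold bt
  rw [land_def, shr_def, Nat.and_one_is_mod, Nat.shiftRight_eq_div_pow, ← Nat.toNat_testBit]
  cases w.testBit c <;> rfl

theorem val_cast (w j : ℕ) : (((bt w j + 2 * bt w (256 + j) : ℕ)) : ZMod 3) = val w j := by
  rw [Nat.cast_add, Nat.cast_mul, bt_cast, bt_cast]
  unfold val tz
  cases w.testBit j <;> cases w.testBit (256 + j) <;> decide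

theorem dotp_er (w : ℕ) {k : ℕ} (hk : k < 240) : dotp (D := chevE8) w (er k) = val w (8 + k) := by
  have hk' : k < chevE8.nroots := hk
  unfold dotp
  rw [Cfsg.Agent.H64.E83.er_eq hk', Finset.sum_eq_single (Sum.inr ⟨k, hk'⟩)]
  · rw [Pi.single_eq_same, mul_one]; rfl
  · intro j _ hj
    rw [Pi.single_eq_of_ne hj, mul_zero]
  · intro h
    exact absurd (Finset.mem_univ _) h

theorem cn_cast (w : ℕ) : ∀ l : List (ℕ × ℤ), (∀ a ∈ l, a.1 < 240 ∧ 0 ≤ a.2) → ((cn w l : ℕ) : ZMod 3) = dotp (D := chevE8) w (vec l)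
  | [], _ => by
    rw [vec_nil, dotp_zero]; exact Nat.cast_zero
  | a :: l, h => by
    obtain ⟨h1, h2⟩ := h a (List.mem_cons_self ..)
    have h3 : ((a.2.toNat : ℕ) : ZMod 3) = (a.2 : ZMod 3) := by
      have h4 : ((a.2.toNat : ℤ) : ZMod 3) = (a.2 : ZMod 3) := by rw [Int.toNat_of_nonneg h2]
      rwa [Int.cast_natCast] at h4
    have h5 : 264 + a.1 = 256 + (8 + a.1) := by omega
    show ((cn w l + a.2.toNat * (bt w (8 + a.1) + 2 * bt w (264 + a.1)) : ℕ) : ZMod 3) = _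
    rw [vec_cons, dotp_add, dotp_smul, dotp_er w h1, Nat.cast_add, Nat.cast_mul, h3, h5, val_cast,
      cn_cast w l (fun b hb => h b (List.mem_cons_of_mem _ hb)), add_comm]

/-- the check: the row kills the vector -/
def kz (w : ℕ) (l : List (ℕ × ℤ)) : Bool := Nat.beq (cn w l % 3) 0

theorem kz_dotp {w : ℕ} {l : List (ℕ × ℤ)} (hl : ∀ a ∈ l, a.1 < 240 ∧ 0 ≤ a.2) (h : kz w l = true) :
    dotp (D := chevE8) w (vec l) = 0 := by
  rw [← cn_cast w l hl]
  have h1 : cn w l % 3 = 0 := Nat.eq_of_beq_eq_true h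
  rw [← Nat.mod_add_div (cn w l) 3, h1, zero_add, Nat.cast_mul]
  have h2 : ((3 : ℕ) : ZMod 3) = 0 := rfl
  rw [h2, zero_mul]

/-- **the abstract statement** -/
theorem fix_gen {v : L3} {l l' : List (ℕ × ℤ)} (hl : ∀ a ∈ l, a.1 < 240 ∧ 0 ≤ a.2) (hl' : ∀ a ∈ l', a.1 < 240 ∧ 0 ≤ a.2)
    {f1 f2 : ℕ} (h1 : f1 < 240) (h2 : f2 < 240) (c11 : (cf l f1 : ZMod 3) = 1) (c12 : (cf l f2 : ZMod 3) = 0)
    (c21 : (cf l' f1 : ZMod 3) = 0) (c22 : (cf l' f2 : ZMod 3) = 1) {sel : List (ℕ × ℕ)} {col : List ℕ} {rw' : ℕ × ℕ → ℕ}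
    (hel : elim (sel.map rw') col = true) (hcol : ∀ n < 248, n ∈ col)
    (hrow : ∀ e ∈ sel, Ann v (rw' e) ∧ kz (rw' e) l = true ∧ kz (rw' e) l' = true ∨
      (rw' e = tun (8 + f1) ∨ rw' e = tun (8 + f2))) :
    ∃ c d : ZMod 3, v = c • vec l + d • vec l' := by
  have h1' : f1 < chevE8.nroots := h1
  have h2' : f2 < chevE8.nroots := h2
  set c := v (Sum.inr ⟨f1, h1'⟩) with hc
  set d := v (Sum.inr ⟨f2, h2'⟩) with hd
  refine ⟨c, d, ?_⟩
  set z : L3 := v + ((-c) • vec l + (-d) • vec l') with hz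
  have z1 : z (Sum.inr ⟨f1, h1'⟩) = 0 := by
    rw [hz, Pi.add_apply, Pi.add_apply, Pi.smul_apply, Pi.smul_apply, vec_inr, vec_inr, ← hc]
    show c + ((-c) • (cf l f1 : ZMod 3) + (-d) • (cf l' f1 : ZMod 3)) = 0
    rw [c11, c21, smul_eq_mul, smul_eq_mul]
    ring
  have z2 : z (Sum.inr ⟨f2, h2'⟩) = 0 := by
    rw [hz, Pi.add_apply, Pi.add_apply, Pi.smul_apply, Pi.smul_apply, vec_inr, vec_inr, ← hd]
    show d + ((-c) • (cf l f2 : ZMod 3) + (-d) • (cf l' f2 : ZMod 3)) = 0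
    rw [c12, c22, smul_eq_mul, smul_eq_mul]
    ring
  have hA : ∀ w ∈ sel.map rw', Ann z w := by
    intro w hw
    obtain ⟨e, he, rfl⟩ := List.mem_map.1 hw
    rcases hrow e he with ⟨h3, h4, h5⟩ | h3 | h3
    · refine ⟨h3.1, ?_⟩
      rw [hz, dotp_add, dotp_add, dotp_smul, dotp_smul, h3.2, kz_dotp hl h4, kz_dotp hl' h5, mul_zero, mul_zero,
        add_zero, add_zero]
    · rw [h3]; exact ann_un sz_le (k := Sum.inr ⟨f1, h1'⟩) z1
    · rw [h3]; exact ann_un sz_le (k := Sum.inr ⟨f2, h2'⟩) z2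
  have hpos : ∀ j : chevE8.Idx, pos chevE8 j ∈ col := fun j => hcol _ (by
    have := (posOK chevE8).lt j
    rwa [sz_eq] at this)
  have hz0 : z = 0 := by
    funext j
    exact elim_sound sz_le col _ hel hA (fun w _ j hj => absurd (hpos j) hj) j (hpos j)
  have h6 : v = z + (c • vec l + d • vec l') := by
    rw [hz, neg_smul, neg_smul]
    abel
  rw [h6, hz0, zero_add]

/-! ### the matrices -/

theorem mx_Ph {w : List Lt} (hw : ∀ l ∈ w, gd l) (h : okW TX (phw w) = true) :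
    mx (Ph (ev w)) = semM chevE8 (wc TX (phw w) (idM 248)) := coe_ph hw h

theorem mx_y : mx (Ph Ay) = semM chevE8 mY := mx_Ph (w := wy) (by decide +kernel) (by decide +kernel)

theorem mx_t : mx (Ph At) = semM chevE8 mT := mx_Ph (w := wt) (by decide +kernel) (by decide +kernel)

theorem mx_x : mx (Ph Ax) = semM chevE8 mX := mx_Ph (w := wx) (by decide +kernel) (by decide +kernel)

/-- the word of `x⁻¹` in transvections -/
def wxi : List Lt := [(0, 4, 1), (0, 2, 2), (2, 0, 2), (0, 3, 2), (1, 2, 2), (4, 1, 1), (3, 4, 2), (4, 0, 2), (2, 3, 1)]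

theorem tv_neg (i j : Fin 5) (c : ZMod 3) : tv (i, j, c) * tv (i, j, -c) = 1 := by
  unfold tv
  by_cases h : i ≠ j
  · rw [dif_pos h, dif_pos h]
    apply Subtype.ext
    show Matrix.transvection i j c * Matrix.transvection i j (-c) = 1
    rw [Matrix.transvection_mul_transvection_same _ _ h, add_neg_cancel, Matrix.transvection_zero]
  · rw [dif_neg h, dif_neg h, mul_one]

theorem ev_inv : ∀ w : List Lt, ev w * ev (w.reverse.map fun l => (l.1, l.2.1, -l.2.2)) = 1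
  | [] => by rw [List.reverse_nil, List.map_nil, ev_nil, mul_one]
  | l :: w => by
    rw [List.reverse_cons, List.map_append, ev_append, ev_cons, mul_assoc, ← mul_assoc (ev w), ev_inv w, one_mul]
    show tv l * ev [(l.1, l.2.1, -l.2.2)] = 1
    rw [ev_cons, ev_nil, mul_one]
    exact tv_neg l.1 l.2.1 l.2.2

theorem Ax_inv : Ax⁻¹ = ev wxi := by
  have h := ev_inv wx
  have h1 : (wx.reverse.map fun l => (l.1, l.2.1, -l.2.2)) = wxi := by decide +kernel
  rw [h1] at h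
  exact inv_eq_of_mul_eq_one_right h

theorem mx_xi : mx (Ph Ax⁻¹) = semM chevE8 mXi := by
  rw [Ax_inv]
  exact mx_Ph (w := wxi) (by decide +kernel) (by decide +kernel)

theorem mx_tx : mx (Ph At) * mx (Ph Ax) = semM chevE8 mTX := by
  have h : mx (Ph At) * mx (Ph Ax) = mx (Ph (ev (wt ++ wx))) := by
    rw [ev_append, map_mul, mx_mul]; rfl
  rw [h]
  exact mx_Ph (w := wt ++ wx) (by decide +kernel) (by decide +kernel)

theorem mx_txi : mx (Ph At) * mx (Ph Ax⁻¹) = semM chevE8 mTXi := by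
  have h : mx (Ph At) * mx (Ph Ax⁻¹) = mx (Ph (ev (wt ++ wxi))) := by
    rw [ev_append, map_mul, mx_mul, ← Ax_inv]; rfl
  rw [h]
  exact mx_Ph (w := wt ++ wxi) (by decide +kernel) (by decide +kernel)

theorem vldw {w : List ℕ} (h : okW TX w = true) : VldM (wc TX w (idM 248)) := by
  have h := vldM_wc Cfsg.Agent.H992.E8X.hE8 sz_le TX_ok h
  rw [sz_eq] at h
  exact h

theorem vld_TX : VldM mTX := vldw (by decide +kernel)

theorem vld_Xi : VldM mXi := vldw (by decide +kernel)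

theorem vld_TXi : VldM mTXi := vldw (by decide +kernel)

theorem killI : (selI.all fun e => Nat.beq e.1 4 && (Nat.beq e.2 82 || Nat.beq e.2 230) ||
    (Nat.blt e.2 248 && Nat.blt e.1 4 && !(Nat.beq e.1 0) && kz (rwI e) lI && kz (rwI e) lI')) = true := by decide +kernel

theorem killJ : (selJ.all fun e => Nat.beq e.1 4 && (Nat.beq e.2 195 || Nat.beq e.2 217) ||
    (Nat.blt e.2 248 && Nat.blt e.1 4 && !(Nat.beq e.1 0) && kz (rwJ e) lII && kz (rwJ e) lII')) = true := by decide +kernel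

theorem h248 {n : ℕ} (hn : n < 248) : n < sz chevE8 := by rw [sz_eq]; exact hn

/-- **`L^{A_I}`** -/
theorem fixI (v : L3) (hy : mx (Ph Ay) *ᵥ v = v) (ht : mx (Ph At) *ᵥ v = v)
    (hx : mx (Ph At) *ᵥ (mx (Ph Ax) *ᵥ v) = mx (Ph Ax) *ᵥ v) : ∃ c d : ZMod 3, v = c • qI + d • qI' := by
  rw [Matrix.mulVec_mulVec, mx_tx, mx_x] at hx
  rw [mx_y] at hy
  rw [mx_t] at ht
  refine fix_gen (l := lI) (l' := lI') (f1 := 74) (f2 := 222) (by decide) (by decide) (by norm_num) (by norm_num)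
    (by decide +kernel) (by decide +kernel) (by decide +kernel) (by decide +kernel) elimI (by decide +kernel) ?_
  intro e he
  have h := List.all_eq_true.1 killI e he
  obtain ⟨a, i⟩ := e
  rw [Bool.or_eq_true, Bool.and_eq_true] at h
  rcases h with ⟨h1, h2⟩ | h
  · have h3 : a = 4 := Nat.eq_of_beq_eq_true h1
    subst h3
    rw [Bool.or_eq_true] at h2
    right
    rcases h2 with h2 | h2
    · have h4 : i = 82 := Nat.eq_of_beq_eq_true h2
      subst h4
      exact Or.inl rfl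
    · have h4 : i = 230 := Nat.eq_of_beq_eq_true h2
      subst h4
      exact Or.inr rfl
  · simp only [Bool.and_eq_true, Bool.not_eq_true'] at h
    obtain ⟨⟨⟨⟨h1, h2⟩, h3⟩, h4⟩, h5⟩ := h
    have hi : i < sz chevE8 := h248 (Nat.le_of_ble_eq_true h1)
    have ha : a < 4 := Nat.le_of_ble_eq_true h2
    have ha0 : a ≠ 0 := Nat.ne_of_beq_eq_false h3
    refine Or.inl ⟨?_, h4, h5⟩
    rcases a with _ | _ | _ | _ | a
    · exact absurd rfl ha0
    · exact ann_fixRow sz_le vld_Y hy hi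
    · exact ann_fixRow sz_le vld_T ht hi
    · exact ann_sub sz_le vld_TX vld_X hx hi
    · omega

/-- **`L^{A_II}`** -/
theorem fixII (v : L3) (hy : mx (Ph Ay) *ᵥ v = v) (ht : mx (Ph At) *ᵥ v = v)
    (hx : mx (Ph At) *ᵥ (mx (Ph Ax⁻¹) *ᵥ v) = mx (Ph Ax⁻¹) *ᵥ v) : ∃ c d : ZMod 3, v = c • qII + d • qII' := by
  rw [Matrix.mulVec_mulVec, mx_txi, mx_xi] at hx
  rw [mx_y] at hy
  rw [mx_t] at ht
  refine fix_gen (l := lII) (l' := lII') (f1 := 187) (f2 := 209) (by decide) (by decide) (by norm_num) (by norm_num)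
    (by decide +kernel) (by decide +kernel) (by decide +kernel) (by decide +kernel) elimJ (by decide +kernel) ?_
  intro e he
  have h := List.all_eq_true.1 killJ e he
  obtain ⟨a, i⟩ := e
  rw [Bool.or_eq_true, Bool.and_eq_true] at h
  rcases h with ⟨h1, h2⟩ | h
  · have h3 : a = 4 := Nat.eq_of_beq_eq_true h1
    subst h3
    rw [Bool.or_eq_true] at h2
    right
    rcases h2 with h2 | h2
    · have h4 : i = 195 := Nat.eq_of_beq_eq_true h2
      subst h4
      exact Or.inl rfl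
    · have h4 : i = 217 := Nat.eq_of_beq_eq_true h2
      subst h4
      exact Or.inr rfl
  · simp only [Bool.and_eq_true, Bool.not_eq_true'] at h
    obtain ⟨⟨⟨⟨h1, h2⟩, h3⟩, h4⟩, h5⟩ := h
    have hi : i < sz chevE8 := h248 (Nat.le_of_ble_eq_true h1)
    have ha : a < 4 := Nat.le_of_ble_eq_true h2
    have ha0 : a ≠ 0 := Nat.ne_of_beq_eq_false h3
    refine Or.inl ⟨?_, h4, h5⟩
    rcases a with _ | _ | _ | _ | a
    · exact absurd rfl ha0
    · exact ann_fixRow sz_le vld_Y hy hi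
    · exact ann_fixRow sz_le vld_T ht hi
    · exact ann_sub sz_le vld_TXi vld_Xi hx hi
    · omega

end Cfsg.Agent.H455.E83
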