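import Cfsg.Agent.H74.E83.NoFixDat

/-!
# Data for the fixed spaces of the two `A₅` (helper455, S5925, box L)

Engine: helper74 (`H74/E83`). Rows `(1, i)` : `y - 1`, `(2, i)` : `t - 1`, `(3, i)` : `t x - x` (resp. `t x⁻¹ - x⁻¹`),
`(4, i)` : the coordinate `i`.
-/

set_option autoImplicit false
set_option maxRecDepth 100000

namespace Cfsg.Agent.H455.E83

open Cfsg.Agent.H74.E83 Cfsg.Agent.H74.E83.Trit Cfsg.Agent.H74.E83.Code Cfsg.Agent.H74.E83.Elim

/-- the word of `t x` in the root elements `x_r(1)` -/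
def wTX : List ℕ :=
  [120, 120, 114, 114, 117, 0, 0, 120, 120, 122, 117, 122, 121, 121, 236, 123, 114, 114, 120, 2, 238, 1, 3, 3, 104,
   147, 136, 77, 104, 103, 136, 103, 109, 169, 98, 98, 147, 104, 104, 75, 75, 163, 76, 70, 70]

/-- the matrix of `t x` -/
def mTX : ℕ := wc TX wTX (idM 248)

/-- the word of `x⁻¹` in the root elements `x_r(1)` -/
def wXi : List ℕ :=
  [3, 1, 1, 238, 238, 2, 2, 120, 120, 114, 123, 123, 236, 236, 121, 70, 76, 76, 163, 163, 75, 104, 147, 147, 98,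
   169, 169, 109, 109]

/-- the matrix of `x⁻¹` -/
def mXi : ℕ := wc TX wXi (idM 248)

/-- the word of `t x⁻¹` in the root elements `x_r(1)` -/
def wTXi : List ℕ :=
  [120, 120, 114, 114, 117, 0, 0, 120, 120, 122, 117, 122, 3, 1, 1, 238, 238, 2, 2, 120, 120, 114, 123, 123, 236,
   236, 121, 104, 147, 136, 77, 104, 103, 136, 103, 70, 76, 76, 163, 163, 75, 104, 147, 147, 98, 169, 169, 109,
   109]

/-- the matrix of `t x⁻¹` -/
def mTXi : ℕ := wc TX wTXi (idM 248)

/-- rows, first case -/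
def selI : List (ℕ × ℕ) :=
  [(1, 4), (2, 32), (2, 43), (2, 51), (2, 73), (2, 91), (2, 104), (2, 111), (2, 129), (2, 135), (1, 171), (1, 177),
   (2, 179), (2, 189), (2, 210), (2, 231), (2, 236), (2, 240), (1, 246), (4, 82), (4, 230), (2, 245), (2, 172), (1,
   172), (1, 236), (1, 242), (1, 245), (2, 234), (1, 233), (1, 231), (1, 238), (2, 89), (1, 234), (2, 230), (2,
   241), (1, 239), (1, 87), (2, 41), (2, 208), (2, 232), (1, 232), (1, 91), (2, 88), (1, 90), (2, 1), (2, 11), (2,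
   22), (2, 62), (2, 106), (2, 109), (2, 131), (2, 147), (2, 174), (2, 194), (1, 220), (2, 33), (2, 169), (2, 198),
   (2, 217), (2, 63), (2, 110), (2, 83), (1, 117), (2, 149), (2, 10), (2, 124), (1, 129), (2, 12), (2, 134), (2,
   23), (2, 178), (1, 180), (2, 153), (2, 167), (2, 215), (2, 40), (2, 127), (2, 143), (1, 10), (1, 23), (2, 49),
   (1, 83), (2, 98), (1, 111), (1, 149), (1, 124), (1, 130), (1, 178), (1, 181), (1, 179), (2, 192), (2, 29), (1,
   192), (1, 29), (1, 182), (1, 174), (1, 194), (2, 27), (2, 36), (2, 187), (2, 219), (2, 77), (2, 121), (2, 31),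
   (2, 93), (2, 224), (2, 102), (1, 221), (1, 219), (2, 228), (1, 210), (1, 218), (1, 225), (2, 222), (3, 52), (3,
   5), (2, 81), (3, 170), (3, 172), (1, 1), (1, 150), (3, 150), (1, 143), (2, 84), (3, 84), (2, 85), (3, 144), (2,
   8), (1, 7), (1, 199), (2, 214), (2, 65), (2, 52), (3, 235), (3, 209), (2, 57), (2, 38), (1, 126), (2, 122), (1,
   131), (3, 9), (3, 128), (3, 126), (1, 9), (3, 241), (1, 205), (2, 59), (3, 229), (3, 68), (3, 69), (1, 57), (3,
   87), (1, 51), (1, 64), (1, 54), (1, 39), (1, 42), (1, 40), (1, 41), (1, 69), (2, 70), (2, 203), (1, 189), (2,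
   196), (1, 81), (1, 120), (2, 157), (2, 159), (1, 147), (2, 151), (3, 231), (3, 226), (3, 243), (2, 113), (1,
   217), (1, 213), (2, 202), (1, 191), (1, 201), (1, 190), (2, 190), (1, 207), (1, 196), (1, 204), (1, 165), (1,
   169), (1, 167), (3, 33), (1, 168), (1, 30), (1, 46), (1, 44), (1, 18), (1, 27), (3, 216), (1, 20), (1, 25), (1,
   26), (1, 28), (1, 33), (3, 45), (1, 31), (3, 35), (3, 168), (3, 198), (2, 19), (1, 76), (2, 15), (1, 146), (1,
   121), (1, 77), (3, 110), (3, 121), (3, 101), (1, 118), (3, 63), (1, 110), (1, 113), (3, 96), (1, 93), (1, 103),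
   (3, 61), (1, 98), (1, 108), (1, 79), (3, 74), (1, 80), (2, 162), (1, 148), (1, 145), (2, 139), (2, 145), (3,
   192), (2, 13), (1, 153), (1, 158), (1, 14), (3, 182), (3, 178), (3, 183), (3, 24), (3, 185), (3, 139), (3, 22),
   (2, 140), (1, 157), (3, 16), (3, 193)]

/-- pivot columns, first case -/
def colI : List ℕ :=
  [245, 201, 43, 221, 95, 91, 104, 117, 129, 136, 177, 172, 180, 199, 210, 238, 236, 240, 244, 82, 230, 246, 171,
   170, 234, 243, 247, 237, 232, 233, 242, 89, 235, 211, 241, 239, 86, 41, 208, 231, 226, 87, 88, 90, 100, 132,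
   176, 72, 105, 94, 131, 175, 174, 194, 227, 32, 169, 198, 217, 73, 110, 83, 155, 111, 10, 124, 122, 12, 134, 23,
   178, 192, 153, 167, 215, 40, 133, 106, 8, 29, 53, 85, 98, 144, 143, 125, 127, 193, 181, 195, 173, 22, 182, 24,
   183, 185, 184, 27, 36, 197, 219, 77, 116, 33, 92, 229, 101, 228, 218, 209, 222, 224, 223, 225, 220, 128, 62, 3,
   149, 150, 138, 112, 2, 78, 0, 1, 84, 11, 126, 214, 213, 69, 49, 52, 57, 55, 38, 7, 130, 5, 4, 6, 123, 9, 76,
   188, 65, 58, 54, 56, 66, 48, 59, 68, 64, 51, 67, 50, 39, 42, 63, 207, 189, 187, 79, 107, 179, 137, 156, 154,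
   109, 121, 99, 113, 212, 205, 206, 200, 202, 190, 191, 186, 216, 196, 164, 165, 166, 168, 203, 44, 45, 35, 19,
   31, 204, 18, 25, 26, 30, 46, 47, 34, 28, 37, 21, 20, 60, 15, 151, 97, 61, 75, 114, 80, 118, 119, 93, 120, 96,
   102, 115, 74, 103, 108, 70, 71, 81, 141, 152, 145, 162, 157, 142, 14, 160, 146, 16, 139, 147, 158, 148, 135,
   161, 159, 140, 163, 17, 13]

/-- rows, second case -/
def selJ : List (ℕ × ℕ) :=
  [(1, 4), (2, 32), (2, 43), (2, 51), (2, 73), (2, 91), (2, 104), (2, 111), (2, 129), (2, 135), (1, 171), (1, 177),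
   (2, 179), (2, 189), (2, 210), (2, 231), (2, 236), (2, 240), (1, 246), (4, 195), (4, 217), (2, 245), (2, 172),
   (1, 172), (1, 236), (1, 242), (1, 245), (2, 217), (2, 234), (1, 233), (1, 231), (1, 238), (2, 169), (2, 89), (1,
   234), (2, 241), (1, 239), (1, 87), (2, 232), (1, 232), (1, 91), (2, 88), (1, 90), (2, 1), (2, 11), (2, 22), (2,
   41), (2, 62), (2, 106), (2, 109), (2, 131), (2, 147), (2, 174), (2, 194), (2, 208), (1, 220), (2, 33), (2, 198),
   (2, 63), (2, 110), (2, 83), (1, 117), (2, 149), (2, 10), (2, 124), (1, 129), (2, 12), (2, 134), (2, 23), (2,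
   178), (1, 180), (2, 153), (2, 167), (2, 215), (2, 40), (1, 179), (2, 127), (2, 143), (2, 27), (2, 187), (2,
   230), (3, 143), (1, 149), (1, 111), (1, 83), (3, 127), (1, 124), (1, 130), (1, 10), (2, 192), (1, 7), (2, 8),
   (3, 125), (1, 8), (3, 11), (3, 131), (3, 9), (1, 11), (2, 128), (1, 23), (2, 49), (2, 98), (1, 178), (1, 181),
   (2, 29), (1, 192), (1, 195), (3, 158), (1, 185), (1, 29), (1, 182), (2, 145), (2, 14), (2, 36), (2, 203), (2,
   219), (2, 77), (2, 121), (2, 31), (2, 196), (2, 224), (2, 102), (2, 190), (2, 70), (2, 81), (1, 199), (1, 205),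
   (2, 85), (3, 1), (2, 155), (2, 84), (1, 3), (1, 150), (3, 155), (1, 85), (3, 106), (2, 162), (2, 157), (2, 214),
   (1, 215), (1, 189), (1, 148), (1, 200), (1, 167), (2, 166), (1, 197), (1, 201), (1, 196), (2, 212), (1, 202),
   (1, 204), (3, 30), (1, 206), (1, 169), (1, 164), (1, 30), (1, 33), (1, 32), (2, 45), (1, 37), (1, 47), (1, 34),
   (1, 45), (3, 189), (3, 196), (3, 31), (1, 18), (1, 28), (1, 20), (2, 19), (3, 166), (2, 159), (2, 113), (2, 93),
   (2, 52), (2, 59), (1, 81), (1, 103), (1, 109), (1, 221), (1, 219), (2, 228), (1, 210), (1, 218), (3, 39), (2,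
   222), (1, 225), (3, 87), (2, 57), (2, 38), (2, 65), (3, 65), (1, 49), (1, 50), (1, 53), (3, 89), (3, 48), (1,
   41), (2, 56), (1, 48), (3, 224), (3, 41), (3, 230), (3, 86), (2, 68), (3, 91), (2, 96), (1, 158), (1, 153), (1,
   136), (1, 147), (2, 151), (3, 147), (2, 140), (3, 185), (1, 140), (2, 160), (1, 162), (1, 146), (3, 153), (3,
   148), (3, 194), (3, 161), (3, 140), (1, 16), (1, 17), (1, 62), (1, 94), (1, 115), (1, 72), (1, 98), (1, 102),
   (1, 120), (3, 93), (1, 104), (1, 108), (3, 231), (3, 113), (3, 102), (3, 121), (3, 104), (3, 99), (3, 110), (2,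
   108), (1, 79), (1, 80), (3, 60), (3, 243)]

/-- pivot columns, second case -/
def colJ : List ℕ :=
  [245, 201, 43, 221, 95, 91, 104, 117, 129, 136, 177, 172, 180, 199, 210, 238, 236, 240, 244, 195, 217, 246, 171,
   170, 234, 243, 247, 191, 237, 232, 233, 242, 169, 89, 235, 241, 239, 86, 231, 226, 87, 88, 90, 100, 133, 176,
   41, 72, 105, 115, 132, 147, 174, 194, 211, 220, 33, 198, 63, 110, 83, 143, 149, 10, 124, 127, 12, 137, 23, 178,
   192, 153, 167, 189, 40, 179, 131, 106, 27, 187, 208, 144, 111, 155, 85, 125, 130, 122, 8, 173, 126, 11, 9, 6, 4,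
   5, 123, 7, 128, 29, 53, 94, 181, 193, 22, 182, 184, 183, 185, 24, 175, 148, 14, 36, 203, 219, 77, 116, 31, 196,
   224, 102, 190, 73, 62, 213, 188, 78, 0, 3, 112, 150, 138, 2, 84, 1, 141, 158, 214, 204, 215, 152, 216, 166, 165,
   212, 197, 200, 186, 202, 207, 205, 206, 164, 168, 45, 46, 30, 26, 37, 47, 25, 35, 32, 34, 44, 19, 28, 18, 20,
   21, 159, 121, 93, 52, 59, 74, 107, 109, 229, 230, 209, 222, 228, 227, 225, 223, 218, 57, 42, 69, 65, 49, 50, 64,
   55, 56, 66, 67, 68, 39, 51, 48, 54, 38, 58, 96, 162, 145, 135, 151, 154, 146, 140, 163, 142, 156, 139, 134, 161,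
   160, 157, 15, 16, 17, 13, 79, 103, 118, 70, 113, 108, 92, 99, 101, 119, 97, 81, 76, 82, 120, 98, 60, 114, 75,
   80, 61, 71]

/-- the selected row -/
def rwI (e : ℕ × ℕ) : ℕ :=
  match e.1 with
  | 1 => fixRow mY e.2
  | 2 => fixRow mT e.2
  | 3 => tsub (row mTX e.2) (row mX e.2)
  | _ => tun e.2

/-- the selected row -/
def rwJ (e : ℕ × ℕ) : ℕ :=
  match e.1 with
  | 1 => fixRow mY e.2
  | 2 => fixRow mT e.2
  | 3 => tsub (row mTXi e.2) (row mXi e.2)
  | _ => tun e.2

theorem elimI : elim (selI.map rwI) colI = true := by decide +kernel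

theorem elimJ : elim (selJ.map rwJ) colJ = true := by decide +kernel

end Cfsg.Agent.H455.E83
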